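import Groth.Agent.Lib.OrdSurf15.Generic
import Groth.Agent.Lib.HomShH7.FullFaith
import Groth.Agent.Lib.NegTwist18.Main
import Mathlib.FieldTheory.IsAlgClosed.Basic

/-!
# Endomorphisms of torsion-free modules simple at the generic point
-/

set_option autoImplicit false
set_option linter.style.haveILetI false
universe u

open CategoryTheory CategoryTheory.Limits AlgebraicGeometry TopologicalSpace Opposite

namespace Groth.Agent.OrdSurf15

variable {X : Scheme.{u}} {A : Sheaf (Opens.grothendieckTopology X) RingCat.{u}}
  (φ : X.ringCatSheaf ⟶ A)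
  (hcen : ∀ (U : (Opens X)ᵒᵖ) (s : X.ringCatSheaf.obj.obj U) (a : A.obj.obj U),
      φ.hom.app U s * a = a * φ.hom.app U s)
  (M : SheafOfModules.{u} A)

/-- The image of a global function in the sections of the algebra. -/
noncomputable def cst (U : (Opens X)ᵒᵖ) : Γ(X, ⊤) →+* A.obj.obj U :=
  (φ.hom.app U).hom.comp (M1.ores (le_top : U.unop ≤ ⊤)).hom

theorem cst_map {U V : (Opens X)ᵒᵖ} (i : U ⟶ V) (r : Γ(X, ⊤)) :
    A.obj.map i (cst φ U r) = cst φ V r := by
  refine (congr($(φ.hom.naturality i) (M1.ores (le_top : U.unop ≤ ⊤) r))).symm.trans ?_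
  refine congrArg (φ.hom.app V) ?_
  exact ConcreteCategory.congr_hom (X.presheaf.map_comp (homOfLE (le_top : U.unop ≤ ⊤)).op i).symm r

/-- Multiplication by a global function. -/
noncomputable def scal : Γ(X, ⊤) →+* End M where
  toFun r := ⟨PresheafOfModules.homMk
    { app := fun U => AddCommGrpCat.ofHom
        { toFun := fun m : M.val.obj U => cst φ U r • m
          map_zero' := smul_zero (cst φ U r)
          map_add' := fun a b => smul_add (cst φ U r) a b }
      naturality := fun {U V} i => by
        ext m
        refine Eq.trans ?_ (M.val.map_smul i (cst φ U r) m).symm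
        rw [cst_map]
        rfl }
    fun U a m => by
      change cst φ U r • a • m = a • cst φ U r • m
      rw [← mul_smul, ← mul_smul]
      exact congrArg (· • m) (hcen U _ a)⟩
  map_one' := by
    refine SheafOfModules.hom_ext (PresheafOfModules.hom_ext fun U => ?_)
    ext m
    change cst φ U 1 • m = m
    rw [map_one, one_smul]
  map_mul' a b := by
    refine SheafOfModules.hom_ext (PresheafOfModules.hom_ext fun U => ?_)
    ext m
    change cst φ U (a * b) • m = cst φ U a • cst φ U b • m
    rw [map_mul, mul_smul]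
  map_zero' := by
    refine SheafOfModules.hom_ext (PresheafOfModules.hom_ext fun U => ?_)
    ext m
    change cst φ U 0 • m = 0
    rw [map_zero, zero_smul]
  map_add' a b := by
    refine SheafOfModules.hom_ext (PresheafOfModules.hom_ext fun U => ?_)
    ext m
    change cst φ U (a + b) • m = cst φ U a • m + cst φ U b • m
    rw [map_add, add_smul]

theorem scal_app (r : Γ(X, ⊤)) (U : (Opens X)ᵒᵖ) (m : M.val.obj U) :
    ((scal φ hcen M r).val.app U).hom m = cst φ U r • m := rfl

theorem scal_comm (r : Γ(X, ⊤)) (f : End M) : scal φ hcen M r * f = f * scal φ hcen M r := by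
  refine SheafOfModules.hom_ext (PresheafOfModules.hom_ext fun U => ?_)
  ext m
  exact ((f.val.app U).hom.map_smul (cst φ U r) m).symm

variable {k : Type u} [Field k] [IsAlgClosed k] [IsIntegral X]

include hcen in
/-- An endomorphism of a torsion-free coherent module which is simple at the generic point is a constant. -/
theorem exists_scalar (q : X ⟶ Spec (CommRingCat.of k)) [IsProper q] [IsLocallyNoetherian X]
    (hMc : Coh.IsCoh (X := X) ((SheafOfModules.restrictScalars φ).obj M))
    (hMt : TorSh.IsTorsionFree (X := X) ((SheafOfModules.restrictScalars φ).obj M))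
    (hMη : IsSimpleModule (↑(TopCat.Presheaf.stalk (C := RingCat.{u}) (X := X.carrier) A.obj (genericPoint X)))
      (↑(TopCat.Presheaf.stalk (C := Ab.{u}) (X := X.carrier) M.val.presheaf (genericPoint X))))
    (f : M ⟶ M) : ∃ c : k, f = scal φ hcen M (NegTwist18.base q c) := by
  let g := NegTwist18.base q
  letI : Algebra k (End M) := ((scal φ hcen M).comp g).toAlgebra' fun c x => scal_comm φ hcen M (g c) x
  let G : X.Modules := (SheafOfModules.restrictScalars φ).obj M
  let H : X.Modules := M2.homMod G G
  have hH : Coh.IsCoh H := HomShH7.isCoh_homMod hMc hMc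
  letI : Module k Γ(H, ⊤) := Module.compHom _ g
  haveI : Module.Finite k Γ(H, ⊤) := NegTwist18.finite_sections q hH
  let L : End M →ₗ[k] Γ(H, ⊤) :=
    { toFun := fun e => HomShH7.secOfHom (M := G) (N := G) ((SheafOfModules.restrictScalars φ).map e) ⊤
      map_add' := fun a b => HomShH7.hom_sec_ext _ _ fun V hV s => rfl
      map_smul' := fun c e => HomShH7.hom_sec_ext _ _ fun V hV s => rfl }
  have hL : Function.Injective L := by
    intro a b h
    refine SheafOfModules.hom_ext (PresheafOfModules.hom_ext fun U => ?_)
    ext m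
    exact congr(HomShH7.ev (M := G) (N := G) $h (le_top : U.unop ≤ ⊤) m)
  haveI : Module.Finite k (End M) := Module.Finite.of_injective L hL
  haveI := hMη
  haveI : Nontrivial (End M) := ⟨⟨1, 0, fun h => by
    haveI := IsSimpleModule.nontrivial (↑(TopCat.Presheaf.stalk (C := RingCat.{u}) (X := X.carrier) A.obj (genericPoint X)))
      (↑(TopCat.Presheaf.stalk (C := Ab.{u}) (X := X.carrier) M.val.presheaf (genericPoint X)))
    obtain ⟨m, hm⟩ := exists_ne (0 : ↑(TopCat.Presheaf.stalk (C := Ab.{u}) (X := X.carrier) M.val.presheaf (genericPoint X)))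
    obtain ⟨U, hU, s, rfl⟩ := TopCat.Presheaf.germ_exist (X := X.carrier) M.val.presheaf m
    have h0 : s = 0 := congr(($h).val.app (op U) s)
    exact hm (by rw [h0, map_zero])⟩⟩
  haveI : NoZeroDivisors (End M) := ⟨fun {a b} h => or_iff_not_imp_left.2 fun ha => by
    haveI : Mono (a : M ⟶ M) := mono_of_simple φ a hMc hMc hMt hMt hMη ha
    exact Limits.zero_of_comp_mono (a : M ⟶ M) h⟩
  haveI : IsDomain (End M) := NoZeroDivisors.to_isDomain _
  obtain ⟨c, hc⟩ := (IsAlgClosed.algebraMap_bijective_of_isIntegral (k := k) (K := End M)).2 f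
  exact ⟨c, hc.symm⟩

end Groth.Agent.OrdSurf15
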