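import Groth.Prelude.Def_Coh
import Groth.Prelude.Def_TorSh
import Groth.Agent.Lib.CurveCoh17.GenericZero
import Mathlib.Algebra.Category.ModuleCat.Stalk
import Mathlib.RingTheory.SimpleModule.Basic
import Mathlib.AlgebraicGeometry.Morphisms.FiniteType

/-!
# Torsion-free modules over a sheaf of algebras: passage to the generic point
-/

set_option autoImplicit false
universe u

open CategoryTheory CategoryTheory.Limits AlgebraicGeometry TopologicalSpace Opposite

namespace Groth.Agent.OrdSurf15

variable {X : Scheme.{u}} {A : Sheaf (Opens.grothendieckTopology X) RingCat.{u}}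
  (φ : X.ringCatSheaf ⟶ A) {M N : SheafOfModules.{u} A}

/-- The morphism of abelian presheaves underlying a morphism of modules. -/
noncomputable abbrev underlying (ψ : M ⟶ N) : M.val.presheaf ⟶ N.val.presheaf :=
  (PresheafOfModules.toPresheaf _).map ψ.val

variable (ψ : M ⟶ N) (x : X)

/-- The map on stalks, linear over the stalk of the sheaf of algebras. -/
noncomputable def stalkLin :
    ↑(TopCat.Presheaf.stalk (C := Ab.{u}) (X := X.carrier) M.val.presheaf x) →ₗ[
      ↑(TopCat.Presheaf.stalk (C := RingCat.{u}) (X := X.carrier) A.obj x)]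
    ↑(TopCat.Presheaf.stalk (C := Ab.{u}) (X := X.carrier) N.val.presheaf x) where
  toFun := (TopCat.Presheaf.stalkFunctor Ab.{u} x).map (underlying ψ)
  map_add' := map_add _
  map_smul' r m := by
    obtain ⟨U, hU, a, rfl⟩ := TopCat.Presheaf.germ_exist (X := X.carrier) A.obj r
    obtain ⟨V, hV, s, rfl⟩ := TopCat.Presheaf.germ_exist (X := X.carrier) M.val.presheaf m
    rw [← TopCat.Presheaf.germ_res_apply (X := X.carrier) A.obj (homOfLE (inf_le_left : U ⊓ V ≤ U)) x ⟨hU, hV⟩ a,
      ← TopCat.Presheaf.germ_res_apply (X := X.carrier) M.val.presheaf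
        (homOfLE (inf_le_right : U ⊓ V ≤ V)) x ⟨hU, hV⟩ s]
    refine Eq.trans (congrArg _ (PresheafOfModules.germ_ringCat_smul (X := X.carrier) M.val x (U ⊓ V) ⟨hU, hV⟩
      _ _).symm) ?_
    refine (TopCat.Presheaf.stalkFunctor_map_germ_apply (U ⊓ V) x ⟨hU, hV⟩ (underlying ψ) _).trans ?_
    refine Eq.trans ?_ (congrArg _ (TopCat.Presheaf.stalkFunctor_map_germ_apply (U ⊓ V) x ⟨hU, hV⟩
      (underlying ψ) _).symm)
    refine Eq.trans (congrArg _ ((ψ.val.app (op (U ⊓ V))).hom.map_smul _ _)) ?_
    exact PresheafOfModules.germ_ringCat_smul (X := X.carrier) N.val x (U ⊓ V) ⟨hU, hV⟩ _ _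

theorem stalkLin_germ {U : X.Opens} (hx : x ∈ U) (s : M.val.obj (op U)) :
    stalkLin ψ x (TopCat.Presheaf.germ (X := X.carrier) M.val.presheaf U x hx s) =
      TopCat.Presheaf.germ (X := X.carrier) N.val.presheaf U x hx ((ψ.val.app (op U)).hom s) :=
  TopCat.Presheaf.stalkFunctor_map_germ_apply U x hx (underlying ψ) s

variable [IsIntegral X] [IsLocallyNoetherian X]

/-- A section of a torsion-free module vanishes if it does so at the generic point. -/
theorem eq_zero_of_generic (hc : Coh.IsCoh (X := X) ((SheafOfModules.restrictScalars φ).obj M))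
    (ht : TorSh.IsTorsionFree (X := X) ((SheafOfModules.restrictScalars φ).obj M))
    {U : X.Opens} (hU : genericPoint X ∈ U) (s : M.val.obj (op U))
    (h : TopCat.Presheaf.germ (X := X.carrier) M.val.presheaf U (genericPoint X) hU s = 0) : s = 0 := by
  haveI := hc.1
  refine GenericZero.eq_zero_of_maxPt (F := (SheafOfModules.restrictScalars φ).obj M) ht s
    fun z hz hmax => ?_
  obtain rfl : genericPoint X = z := hmax _ (genericPoint_specializes z)
  exact h

theorem eq_zero_section_of_generic (hc : Coh.IsCoh (X := X) ((SheafOfModules.restrictScalars φ).obj M))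
    (ht : TorSh.IsTorsionFree (X := X) ((SheafOfModules.restrictScalars φ).obj M))
    {U : X.Opens} (s : M.val.obj (op U))
    (h : ∀ hU : genericPoint X ∈ U,
      TopCat.Presheaf.germ (X := X.carrier) M.val.presheaf U (genericPoint X) hU s = 0) : s = 0 := by
  haveI := hc.1
  refine GenericZero.eq_zero_of_maxPt (F := (SheafOfModules.restrictScalars φ).obj M) ht s
    fun z hz hmax => ?_
  obtain rfl : genericPoint X = z := hmax _ (genericPoint_specializes z)
  exact h hz

/-- A nonzero morphism to a torsion-free module is injective if the source is torsion-free and simple at the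
generic point. -/
theorem mono_of_simple (hMc : Coh.IsCoh (X := X) ((SheafOfModules.restrictScalars φ).obj M))
    (hNc : Coh.IsCoh (X := X) ((SheafOfModules.restrictScalars φ).obj N))
    (hMt : TorSh.IsTorsionFree (X := X) ((SheafOfModules.restrictScalars φ).obj M))
    (hNt : TorSh.IsTorsionFree (X := X) ((SheafOfModules.restrictScalars φ).obj N))
    (hM : IsSimpleModule (↑(TopCat.Presheaf.stalk (C := RingCat.{u}) (X := X.carrier) A.obj (genericPoint X)))
      (↑(TopCat.Presheaf.stalk (C := Ab.{u}) (X := X.carrier) M.val.presheaf (genericPoint X))))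
    (hψ : ψ ≠ 0) : Mono ψ := by
  haveI := hM
  rcases eq_bot_or_eq_top (LinearMap.ker (stalkLin ψ (genericPoint X))) with hb | ht
  · haveI : Mono ψ.val := by
      refine PresheafOfModules.mono_of_injective (f := ψ.val) fun {V} => ?_
      refine (injective_iff_map_eq_zero _).2 fun s hs => ?_
      refine eq_zero_section_of_generic φ hMc hMt (U := V.unop) s fun hV => ?_
      have h1 : TopCat.Presheaf.germ (X := X.carrier) M.val.presheaf V.unop (genericPoint X) hV s ∈
          LinearMap.ker (stalkLin ψ (genericPoint X)) := by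
        refine (stalkLin_germ ψ _ hV s).trans ?_
        exact (congrArg _ hs).trans (map_zero _)
      rw [hb] at h1
      exact h1
    exact (SheafOfModules.forget A).mono_of_mono_map ‹_›
  · refine absurd ?_ hψ
    refine SheafOfModules.hom_ext (PresheafOfModules.hom_ext fun V => ?_)
    ext s
    refine eq_zero_section_of_generic φ hNc hNt (U := V.unop) _ fun hV => ?_
    refine (stalkLin_germ ψ _ hV s).symm.trans ?_
    exact (SetLike.ext_iff.1 ht _).2 trivial

end Groth.Agent.OrdSurf15
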