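import Mathlib.Algebra.Category.ModuleCat.Sheaf.PushforwardContinuous
import Mathlib.Algebra.Category.ModuleCat.Presheaf.Sheafification
import Mathlib.Algebra.Category.ModuleCat.Presheaf.EpiMono
import Mathlib.Algebra.Category.ModuleCat.Sheaf.Limits
import Mathlib.CategoryTheory.Preadditive.Injective.Basic
import Mathlib.Topology.Sheaves.Sheaf
import Mathlib.Algebra.Category.ModuleCat.Sheaf.Abelian
import Mathlib.CategoryTheory.Sites.LeftExact
import Mathlib.Algebra.Category.Grp.FilteredColimits
import Mathlib.Algebra.Category.Ring.FilteredColimits

/-!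
# Restriction to an open preserves injective sheaves of modules
-/

set_option autoImplicit false
set_option backward.isDefEq.respectTransparency false
universe u

open CategoryTheory CategoryTheory.Limits TopologicalSpace Opposite

namespace Groth.Agent.OverInj

variable {X : TopCat.{u}} {A : Sheaf (Opens.grothendieckTopology X) RingCat.{u}} (U : Opens X)
  (P : SheafOfModules.{u} (A.over U))

/-- An open inside `U` as an object over `U`. -/
abbrev ov {V : Opens X} (h : V ≤ U) : (Over U)ᵒᵖ := op (Over.mk (homOfLE h))

/-- The inclusion between opens inside `U`. -/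
abbrev ovHom {V V' : Opens X} (h : V ≤ U) (h' : V' ≤ U) (e : V' ≤ V) : ov U h ⟶ ov U h' :=
  (Over.homMk (U := Over.mk (homOfLE h')) (V := Over.mk (homOfLE h)) (homOfLE e)).op

noncomputable instance modAt {V : (Opens X)ᵒᵖ} (h : V.unop ≤ U) : Module (A.obj.obj V) (P.val.obj (ov U h)) :=
  inferInstanceAs (Module ((A.over U).obj.obj (ov U h)) (P.val.obj (ov U h)))

/-- The value of the extension by zero at `V`. -/
noncomputable abbrev EV (V : (Opens X)ᵒᵖ) : Type u := ∀ h : PLift (V.unop ≤ U), P.val.obj (ov U h.down)

open Classical in
/-- Restriction maps of the extension by zero. -/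
noncomputable def res {V V' : (Opens X)ᵒᵖ} (f : V ⟶ V') : EV U P V →+ EV U P V' where
  toFun x h' := if h : V.unop ≤ U then P.val.presheaf.map (ovHom U h h'.down (leOfHom f.unop)) (x ⟨h⟩) else 0
  map_zero' := funext fun h' => by
    by_cases h : V.unop ≤ U
    · simp only [dif_pos h]
      exact map_zero (P.val.presheaf.map _).hom
    · simp [dif_neg h]
  map_add' x y := funext fun h' => by
    by_cases h : V.unop ≤ U
    · simp only [dif_pos h, Pi.add_apply]
      exact map_add (P.val.presheaf.map _).hom _ _
    · simp [dif_neg h]

open Classical in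
theorem res_apply {V V' : (Opens X)ᵒᵖ} (f : V ⟶ V') (h : V.unop ≤ U) (x : EV U P V) (h' : PLift (V'.unop ≤ U)) :
    res U P f x h' = P.val.presheaf.map (ovHom U h h'.down (leOfHom f.unop)) (x ⟨h⟩) := dif_pos h

open Classical in
theorem res_apply_neg {V V' : (Opens X)ᵒᵖ} (f : V ⟶ V') (h : ¬ V.unop ≤ U) (x : EV U P V)
    (h' : PLift (V'.unop ≤ U)) : res U P f x h' = 0 := dif_neg h

/-- The extension by zero as a presheaf of abelian groups. -/
noncomputable def extAb : (Opens X)ᵒᵖ ⥤ Ab.{u} where
  obj V := AddCommGrpCat.of (EV U P V)
  map f := AddCommGrpCat.ofHom (res U P f)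
  map_id V := by
    refine AddCommGrpCat.hom_ext (AddMonoidHom.ext fun (x : EV U P V) => funext fun h => ?_)
    change res U P (𝟙 V) x h = x h
    rw [res_apply U P (𝟙 V) h.down]
    exact congr($(P.val.presheaf.map_id (ov U h.down)) (x h))
  map_comp {V V' V''} f g := by
    refine AddCommGrpCat.hom_ext (AddMonoidHom.ext fun (x : EV U P V) => funext fun h'' => ?_)
    change res U P (f ≫ g) x h'' = res U P g (res U P f x) h''
    by_cases h : V.unop ≤ U
    · rw [res_apply U P _ h, res_apply U P g ((leOfHom f.unop).trans h), res_apply U P f h,
        ← ConcreteCategory.comp_apply, ← Functor.map_comp]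
      rfl
    · rw [res_apply_neg U P _ h]
      by_cases h' : V'.unop ≤ U
      · rw [res_apply U P g h', res_apply_neg U P f h]
        exact (map_zero (P.val.presheaf.map _).hom).symm
      · rw [res_apply_neg U P g h']

noncomputable instance (V : (Opens X)ᵒᵖ) : Module (A.obj.obj V) ((extAb U P).obj V) :=
  inferInstanceAs (Module (A.obj.obj V) (EV U P V))

/-- The extension by zero. -/
noncomputable def ext0 : PresheafOfModules.{u} A.obj :=
  PresheafOfModules.ofPresheaf (extAb U P) fun {V V'} f r x => by
    funext h'
    change res U P f (r • x) h' = A.obj.map f r • res U P f x h'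
    by_cases h : V.unop ≤ U
    · rw [res_apply U P f h, res_apply U P f h]
      exact P.val.map_smul (ovHom U h h'.down (leOfHom f.unop)) r (x ⟨h⟩)
    · rw [res_apply_neg U P f h, res_apply_neg U P f h, smul_zero]

variable {U P} {Q : SheafOfModules.{u} (A.over U)}

/-- Functoriality. -/
noncomputable def ext0Map (g : P ⟶ Q) : ext0 U P ⟶ ext0 U Q :=
  PresheafOfModules.homMk
    { app := fun V => AddCommGrpCat.ofHom
        { toFun := fun (x : EV U P V) (h : PLift (V.unop ≤ U)) => (g.val.app (ov U h.down)).hom (x h)
          map_zero' := funext fun h => map_zero _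
          map_add' := fun x y => funext fun h => map_add _ _ _ }
      naturality := fun {V V'} f => by
        ext x
        funext h'
        change (g.val.app (ov U h'.down)).hom (res U P f x h') =
          res U Q f (fun h => (g.val.app (ov U h.down)).hom (x h)) h'
        by_cases h : V.unop ≤ U
        · rw [res_apply U P f h, res_apply U Q f h]
          exact PresheafOfModules.naturality_apply g.val (ovHom U h h'.down (leOfHom f.unop)) (x ⟨h⟩)
        · rw [res_apply_neg U P f h, res_apply_neg U Q f h, map_zero] }
    fun V r x => funext fun h => (g.val.app (ov U h.down)).hom.map_smul r (x h)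

variable {N : SheafOfModules.{u} A}

open Classical in
/-- Morphisms out of the extension by zero. -/
noncomputable def lift0 (g : P ⟶ N.over U) : ext0 U P ⟶ N.val :=
  PresheafOfModules.homMk
    { app := fun V => AddCommGrpCat.ofHom
        { toFun := fun (x : EV U P V) =>
            if h : V.unop ≤ U then (g.val.app (ov U h)).hom (x ⟨h⟩) else (0 : N.val.obj V)
          map_zero' := by
            by_cases h : V.unop ≤ U
            · rw [dif_pos h]; exact map_zero _
            · rw [dif_neg h]
          map_add' := fun x y => by
            by_cases h : V.unop ≤ U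
            · simp only [dif_pos h]; exact map_add _ _ _
            · simp only [dif_neg h]; exact (add_zero _).symm }
      naturality := fun {V V'} f => by
        ext x
        change (if h : V'.unop ≤ U then (g.val.app (ov U h)).hom (res U P f x ⟨h⟩) else (0 : N.val.obj V')) =
          N.val.presheaf.map f (if h : V.unop ≤ U then (g.val.app (ov U h)).hom (x ⟨h⟩) else 0)
        by_cases h : V.unop ≤ U
        · rw [dif_pos h, dif_pos ((leOfHom f.unop).trans h), res_apply U P f h]
          exact PresheafOfModules.naturality_apply g.val (ovHom U h ((leOfHom f.unop).trans h) (leOfHom f.unop)) (x ⟨h⟩)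
        · rw [dif_neg h]
          refine Eq.trans ?_ (map_zero (N.val.presheaf.map f).hom).symm
          by_cases h' : V'.unop ≤ U
          · rw [dif_pos h', res_apply_neg U P f h]
            exact map_zero _
          · rw [dif_neg h'] }
    fun V r x => by
      change (if h : V.unop ≤ U then (g.val.app (ov U h)).hom (r • x ⟨h⟩) else (0 : N.val.obj V)) =
        r • (if h : V.unop ≤ U then (g.val.app (ov U h)).hom (x ⟨h⟩) else (0 : N.val.obj V))
      by_cases h : V.unop ≤ U
      · simp only [dif_pos h]
        exact (g.val.app (ov U h)).hom.map_smul r _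
      · simp only [dif_neg h, smul_zero]

theorem lift0_app (g : P ⟶ N.over U) {V : (Opens X)ᵒᵖ} (h : V.unop ≤ U) (x : EV U P V) :
    ((lift0 g).app V).hom x = (g.val.app (ov U h)).hom (x ⟨h⟩) := dif_pos h

/-- A morphism to `N.over U` from a morphism out of the extension by zero. -/
noncomputable def unlift0 (g : ext0 U P ⟶ N.val) : P ⟶ N.over U :=
  ⟨PresheafOfModules.homMk
    { app := fun W => AddCommGrpCat.ofHom
        { toFun := fun (x : P.val.obj W) =>
            ((g.app (op W.unop.left)).hom (fun _ => x : EV U P (op W.unop.left)) : N.val.obj (op W.unop.left))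
          map_zero' := map_zero (g.app (op W.unop.left)).hom
          map_add' := fun x y => map_add (g.app (op W.unop.left)).hom (fun _ => x) (fun _ => y) }
      naturality := fun {W W'} f => by
        ext x
        refine Eq.trans ?_ (PresheafOfModules.naturality_apply g f.unop.left.op
          (fun _ => x : EV U P (op W.unop.left)))
        refine congrArg (g.app (op W'.unop.left)).hom (funext fun h' => ?_)
        exact (res_apply U P f.unop.left.op (leOfHom W.unop.hom) (fun _ => x) h').symm }
    fun W r x => (g.app (op W.unop.left)).hom.map_smul r (fun _ => x : EV U P (op W.unop.left))⟩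

theorem injective_over (I : SheafOfModules.{u} A) [Injective I] (U : Opens X) : Injective (I.over U) where
  factors {P Q} g f _ := by
    let α : A.obj ⟶ A.obj := 𝟙 _
    haveI : Mono f.val := (SheafOfModules.forget _).map_mono f
    haveI : Mono (ext0Map f) := by
      refine PresheafOfModules.mono_of_injective fun {V} x y hxy => ?_
      funext h
      exact @PresheafOfModules.injective_of_mono _ _ _ _ _ f.val ‹_› (ov U h.down) _ _
        (congrFun hxy h)
    let adj := PresheafOfModules.sheafificationAdjunction (R := A) α
    let S := PresheafOfModules.sheafification (R := A) α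
    haveI : Mono (S.map (ext0Map f)) := S.map_mono (ext0Map f)
    obtain ⟨h, hh⟩ := Injective.factors ((adj.homEquiv _ I).symm (lift0 g)) (S.map (ext0Map f))
    let l : ext0 U Q ⟶ I.val := adj.homEquiv _ I h
    have hl : ext0Map f ≫ l = lift0 g := by
      have := congrArg (adj.homEquiv _ I) hh
      rw [adj.homEquiv_naturality_left, Equiv.apply_symm_apply] at this
      exact this
    refine ⟨unlift0 l, SheafOfModules.hom_ext (PresheafOfModules.hom_ext fun W => ?_)⟩
    ext x
    have h1 : ((ext0Map f ≫ l).app (op W.unop.left)).hom (fun _ => x : EV U P (op W.unop.left)) =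
        ((lift0 g).app (op W.unop.left)).hom (fun _ => x : EV U P (op W.unop.left)) := by rw [hl]
    exact h1.trans (lift0_app g (leOfHom W.unop.hom) _)

end Groth.Agent.OverInj
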